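import Groth.Agent.Lib.Goren.Artin
import Groth.Agent.Lib.Goren.LCI
import Groth.Agent.Lib.Goren.LCIFibre
import Groth.Agent.Lib.Goren.Rings
import Mathlib.RingTheory.Localization.FractionRing
import Mathlib.RingTheory.RegularLocalRing.Defs

/-!
# Gorenstein criteria for quotients of regular rings by three-generated ideals
-/

universe u

open IsLocalRing RingTheory.Sequence

namespace Groth.Agent.H15.WeilGor.Local

open Groth.Agent.Lib.Goren

/-- Two independent socle elements obstruct the Gorenstein property. -/
theorem not_gorenstein_of_two_socle {S : Type u} [CommRing S] [IsLocalRing S] (x y : S) (hx : x ≠ 0)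
    (hxm : ∀ m ∈ maximalIdeal S, m * x = 0) (hym : ∀ m ∈ maximalIdeal S, m * y = 0)
    (hy : y ∉ Ideal.span {x}) : ¬ LocCoh.IsGorensteinLocalRing S := by
  intro hG
  haveI := hG
  have : IsNoetherianRing S := inferInstance
  have hass : maximalIdeal S ∈ associatedPrimes S S := by
    rw [AssociatedPrimes.mem_iff, isAssociatedPrime_iff_exists_injective_linearMap]
    refine ⟨inferInstance, Submodule.liftQ (maximalIdeal S) (LinearMap.toSpanSingleton S S x)
      (fun m hm => hxm m hm), ?_⟩
    rw [← LinearMap.ker_eq_bot, Submodule.ker_liftQ, Submodule.eq_bot_iff]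
    rintro _ ⟨m, hm, rfl⟩
    rw [Submodule.mkQ_apply, Submodule.Quotient.mk_eq_zero]
    by_contra h
    exact hx ((IsLocalRing.notMem_maximalIdeal.mp h).mul_right_eq_zero.mp
      (LinearMap.mem_ker.mp hm))
  have hd : LocCoh.depth S S = 0 :=
    (Groth.Agent.Lib.Depth.Assoc.depth_eq_zero_iff (M := S)).mpr hass
  obtain ⟨n, hn⟩ := hG.exists_hasInjectiveDimensionLT
  have := Basic.injective_of_depth_eq_zero hd hn
  have hlen := (Artin.length_socle_of_injective hd
    ((Module.injective_iff_injective_object S S).mpr inferInstance)).2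
  have := Module.length_eq_one_iff.mp hlen
  have hmem : ∀ {z : S}, (∀ m ∈ maximalIdeal S, m * z = 0) → z ∈ LocCoh.torsionBy (maximalIdeal S) S :=
    fun {z} hz => (Submodule.mem_torsionBySet_iff _ _).mpr fun a => hz a a.2
  have hne : (⟨x, hmem hxm⟩ : LocCoh.torsionBy (maximalIdeal S) S) ≠ 0 :=
    fun h => hx (congrArg Subtype.val h)
  obtain ⟨r, hr⟩ := IsSimpleModule.toSpanSingleton_surjective S hne ⟨y, hmem hym⟩
  exact hy (Ideal.mem_span_singleton'.mpr ⟨r, congrArg Subtype.val hr⟩)

/-- A quotient of a regular domain which is locally cut out by regular sequences of length two. -/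
theorem isGorensteinRing_of_locally_two {A T : Type u} [CommRing A] [IsRegularRing A] [CommRing T]
    (f : A →+* T) (hf : Function.Surjective f)
    (h : ∀ M : Ideal A, M.IsPrime → RingHom.ker f ≤ M → ∃ a b g : A, IsWeaklyRegular A [a, b] ∧
      Ideal.span {a, b} ≤ M ∧ g ∉ M ∧ (∀ z ∈ RingHom.ker f, g * z ∈ Ideal.span {a, b}) ∧
        ∀ z ∈ ({a, b} : Set A), g * z ∈ RingHom.ker f) :
    LocCoh.IsGorensteinRing T := by
  have : IsNoetherianRing T := isNoetherianRing_of_surjective A T f hf
  refine { isGorensteinLocalRing_localization := fun P _ => ?_ }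
  set M := P.comap f with hM
  obtain ⟨a, b, g, hreg, habM, hg, hle, hge⟩ := h M inferInstance (fun z hz => by
    show f z ∈ P
    rw [RingHom.mem_ker.mp hz]
    exact zero_mem _)
  obtain ⟨hsurj, hker⟩ := LCIFibre.localRingHom_surjective_ker f hf P
  let L := Localization.AtPrime M
  have : IsRegularLocalRing L := IsRegularRing.isRegularLocalRing_localization M
  have := Basic.isGorensteinLocalRing_of_isRegular L
  have hlist : ([a, b].map (algebraMap A L)) = [algebraMap A L a, algebraMap A L b] := rfl
  have hG := LCI.gorenstein_quotient_of_isWeaklyRegular L [algebraMap A L a, algebraMap A L b]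
    (fun z hz => by
      simp only [List.mem_cons, List.not_mem_nil, or_false] at hz
      rcases hz with rfl | rfl <;> refine (IsLocalization.AtPrime.to_map_mem_maximal_iff L M _).mpr
        (habM (Ideal.subset_span ?_)) <;> simp)
    (hlist ▸ IsWeaklyRegular.of_flat (S := L) hreg)
  suffices he : Ideal.ofList [algebraMap A L a, algebraMap A L b] =
      RingHom.ker (Localization.localRingHom M P f rfl) from
    Flat.isGorensteinLocalRing_ringEquiv
      ((Ideal.quotEquivOfEq he).trans (RingHom.quotientKerEquivOfSurjective hsurj))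
  rw [hker]
  refine le_antisymm ?_ (Ideal.map_le_iff_le_comap.mpr fun z hz => ?_)
  · rw [Ideal.ofList, Ideal.span_le]
    intro z hz
    obtain ⟨w, hw, rfl⟩ : ∃ w ∈ ({a, b} : Set A), algebraMap A L w = z := by
      simp only [List.mem_cons, List.not_mem_nil, or_false, Set.mem_setOf_eq] at hz
      rcases hz with rfl | rfl
      · exact ⟨a, Or.inl rfl, rfl⟩
      · exact ⟨b, Or.inr rfl, rfl⟩
    refine (Ideal.unit_mul_mem_iff_mem (I := (RingHom.ker f).map (algebraMap A L))
      (IsLocalization.map_units L (⟨g, hg⟩ : M.primeCompl))).mp ?_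
    rw [← map_mul]
    exact Ideal.mem_map_of_mem _ (hge w hw)
  · refine (Ideal.unit_mul_mem_iff_mem (I := Ideal.ofList [algebraMap A L a, algebraMap A L b])
      (IsLocalization.map_units L (⟨g, hg⟩ : M.primeCompl))).mp ?_
    rw [← map_mul]
    have h2 := Ideal.mem_map_of_mem (algebraMap A L) (hle z hz)
    rw [Ideal.map_span, Set.image_pair] at h2
    refine (Ideal.span_le.mpr ?_ : Ideal.span {algebraMap A L a, algebraMap A L b} ≤
      Ideal.ofList [algebraMap A L a, algebraMap A L b]) h2
    intro w hw
    refine Ideal.subset_span ?_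
    rcases hw with rfl | rfl <;> simp

end Groth.Agent.H15.WeilGor.Local
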