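import Groth.Agent.S17984

/-!
# Polynomial computations for the minimal order with a rational point
-/

open MvPolynomial

namespace Groth.Agent.H15.WeilGor.Poly

/-- A polynomial is congruent to its value modulo the ideal of the point. -/
theorem sub_eval_mem (a b : ℤ) (g : MvPolynomial (Fin 2) ℤ) :
    g - C (MvPolynomial.eval ![a, b] g) ∈ Ideal.span {X 0 - C a, X 1 - C b} := by
  induction g using MvPolynomial.induction_on with
  | C c => simp
  | add g₁ g₂ h₁ h₂ =>
    convert Ideal.add_mem _ h₁ h₂ using 1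
    simp only [map_add]; ring
  | mul_X g i hg =>
    have hX : (X i : MvPolynomial (Fin 2) ℤ) - C (![a, b] i) ∈ Ideal.span {X 0 - C a, X 1 - C b} := by
      fin_cases i
      · exact Ideal.subset_span (Or.inl (by simp))
      · exact Ideal.subset_span (Or.inr (by simp))
    convert Ideal.add_mem _ (Ideal.mul_mem_right (X i) _ hg)
      (Ideal.mul_mem_left _ (C (MvPolynomial.eval ![a, b] g)) hX) using 1
    simp only [map_mul, eval_X]; ring

/-- The kernel of the substitution `X 0 ↦ s`. -/
theorem dvd_of_subst_eq_zero (s : ℤ) (g : MvPolynomial (Fin 2) ℤ)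
    (hg : MvPolynomial.aeval ![Polynomial.C s, Polynomial.X] g = 0) : X 0 - C s ∣ g := by
  have key : ∀ f : MvPolynomial (Fin 2) ℤ, f - Polynomial.aeval (X 1 : MvPolynomial (Fin 2) ℤ)
      (MvPolynomial.aeval ![Polynomial.C s, Polynomial.X] f) ∈ Ideal.span {X 0 - C s} := by
    intro f
    induction f using MvPolynomial.induction_on with
    | C c => simp
    | add g₁ g₂ h₁ h₂ =>
      convert Ideal.add_mem _ h₁ h₂ using 1
      simp only [map_add]; ring
    | mul_X g i hg =>
      have hX : (X i : MvPolynomial (Fin 2) ℤ) - Polynomial.aeval (X 1 : MvPolynomial (Fin 2) ℤ)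
          (MvPolynomial.aeval ![Polynomial.C s, Polynomial.X] (X i : MvPolynomial (Fin 2) ℤ)) ∈
          Ideal.span {X 0 - C s} := by
        fin_cases i
        · exact Ideal.subset_span (by simp)
        · simp
      convert Ideal.add_mem _ (Ideal.mul_mem_right (X i) _ hg)
        (Ideal.mul_mem_left _ (Polynomial.aeval (X 1 : MvPolynomial (Fin 2) ℤ)
          (MvPolynomial.aeval ![Polynomial.C s, Polynomial.X] g)) hX) using 1
      simp only [map_mul]; ring
  have h := key g
  rw [hg, map_zero, sub_zero] at h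
  exact Ideal.mem_span_singleton.mp h

variable (p : ℕ) [Fact p.Prime]

/-- Reduction modulo `p` and restriction to the `j`-th axis. -/
noncomputable def axis (j : Fin 2) : MvPolynomial (Fin 2) ℤ →+* Polynomial (ZMod p) :=
  eval₂Hom (Polynomial.C.comp (Int.castRingHom (ZMod p))) fun i => if i = j then Polynomial.X else 0

theorem axis_C (j : Fin 2) (c : ℤ) : axis p j (C c) = Polynomial.C (c : ZMod p) := by simp [axis]

theorem axis_X (j i : Fin 2) : axis p j (X i) = if i = j then Polynomial.X else 0 := by simp [axis]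

theorem axis_rel (j : Fin 2) {q : ℤ} (hq : (p : ℤ) ∣ q) : axis p j (X 0 * X 1 - C q) = 0 := by
  rw [map_sub, map_mul, axis_C, axis_X, axis_X,
    (ZMod.intCast_zmod_eq_zero_iff_dvd q p).mpr hq, map_zero, sub_zero]
  fin_cases j <;> simp

theorem coeff_zero_axis (j : Fin 2) (g : MvPolynomial (Fin 2) ℤ) :
    (axis p j g).coeff 0 = ((MvPolynomial.eval ![0, 0] g : ℤ) : ZMod p) := by
  induction g using MvPolynomial.induction_on with
  | C c => simp [axis_C]
  | add g₁ g₂ h₁ h₂ => rw [map_add, map_add, Polynomial.coeff_add, h₁, h₂, Int.cast_add]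
  | mul_X g i hg =>
    rw [map_mul, map_mul, Polynomial.mul_coeff_zero, hg, axis_X, eval_X]
    fin_cases i <;> fin_cases j <;> simp

/-- A polynomial is congruent to its restriction to an axis. -/
theorem sub_aeval_mem (j k : Fin 2) (hjk : j ≠ k) (g : MvPolynomial (Fin 2) ℤ) (E : Polynomial ℤ)
    (hE : E.map (Int.castRingHom (ZMod p)) = axis p j g) :
    g - Polynomial.aeval (X j : MvPolynomial (Fin 2) ℤ) E ∈ Ideal.span {C (p : ℤ), X k} := by
  have hi : ∀ i, i = j ∨ i = k := by
    intro i
    fin_cases i <;> fin_cases j <;> fin_cases k <;> simp_all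
  have hex : ∀ f : MvPolynomial (Fin 2) ℤ, ∃ F : Polynomial ℤ,
      f - Polynomial.aeval (X j : MvPolynomial (Fin 2) ℤ) F ∈ Ideal.span {C (p : ℤ), X k} := by
    intro f
    induction f using MvPolynomial.induction_on with
    | C c => exact ⟨Polynomial.C c, by simp⟩
    | add g₁ g₂ h₁ h₂ =>
      obtain ⟨F₁, h₁⟩ := h₁
      obtain ⟨F₂, h₂⟩ := h₂
      refine ⟨F₁ + F₂, ?_⟩
      convert Ideal.add_mem _ h₁ h₂ using 1
      simp only [map_add]; ring
    | mul_X g i hg =>
      obtain ⟨F, hF⟩ := hg
      rcases hi i with rfl | rfl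
      · refine ⟨F * Polynomial.X, ?_⟩
        convert Ideal.mul_mem_right (X i) _ hF using 1
        simp only [map_mul, Polynomial.aeval_X]; ring
      · refine ⟨0, ?_⟩
        rw [map_zero, sub_zero]
        exact Ideal.mul_mem_left _ _ (Ideal.subset_span (Or.inr rfl))
  obtain ⟨F, hF⟩ := hex g
  have hker : ∀ z ∈ Ideal.span {C (p : ℤ), (X k : MvPolynomial (Fin 2) ℤ)}, axis p j z = 0 := by
    intro z hz
    obtain ⟨a, b, rfl⟩ := Ideal.mem_span_pair.mp hz
    simp [axis_C, axis_X, hjk.symm]
  have haev : ∀ G : Polynomial ℤ, axis p j (Polynomial.aeval (X j) G) = G.map (Int.castRingHom (ZMod p)) := by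
    intro G
    induction G using Polynomial.induction_on' with
    | add a b ha hb => simp only [map_add, Polynomial.map_add, ha, hb]
    | monomial n a =>
      simp [Polynomial.aeval_monomial, axis_X, ← Polynomial.C_mul_X_pow_eq_monomial]
  have h1 := hker _ hF
  rw [map_sub, sub_eq_zero, haev, ← hE] at h1
  have h2 : Polynomial.C (p : ℤ) ∣ F - E := by
    rw [Polynomial.C_dvd_iff_dvd_coeff]
    intro n
    have h3 := congrArg (fun G : Polynomial (ZMod p) => G.coeff n) h1
    simp only [Polynomial.coeff_map] at h3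
    rw [← ZMod.intCast_zmod_eq_zero_iff_dvd, Polynomial.coeff_sub, Int.cast_sub, sub_eq_zero]
    simpa using h3.symm
  obtain ⟨d, hd⟩ := h2
  convert Ideal.add_mem _ hF (Ideal.mul_mem_right (Polynomial.aeval (X j : MvPolynomial (Fin 2) ℤ) d) _
    (Ideal.subset_span (Set.mem_insert (C (p : ℤ)) {(X k : MvPolynomial (Fin 2) ℤ)}))) using 1
  have := congrArg (Polynomial.aeval (X j : MvPolynomial (Fin 2) ℤ)) hd
  rw [map_sub, map_mul, Polynomial.aeval_C, algebraMap_eq] at this
  linear_combination this

end Groth.Agent.H15.WeilGor.Poly
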