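import Groth.Agent.H15.WeilGor.Local
import Groth.Agent.H15.WeilGor.Poly

/-!
# The non-ordinary case: two socle elements
-/

universe u

open MvPolynomial IsLocalRing

namespace Groth.Agent.H15.WeilGor.NotGor

open Groth.Agent.H15.WeilGor.Poly

variable (p : ℕ) [Fact p.Prime]

theorem exists_trailing {a : Polynomial (ZMod p)} (ha : a ≠ 0) (ha0 : a.coeff 0 = 0) :
    ∃ (i : ℕ) (e : Polynomial (ZMod p)), 1 ≤ i ∧ a = Polynomial.X ^ i * e ∧ e.coeff 0 ≠ 0 := by
  obtain ⟨e, he, hnd⟩ := Polynomial.exists_eq_pow_rootMultiplicity_mul_and_not_dvd a ha (0 : ZMod p)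
  rw [Polynomial.C_0, sub_zero] at he hnd
  have he0 : e.coeff 0 ≠ 0 := fun h => hnd (Polynomial.X_dvd_iff.mpr h)
  refine ⟨_, e, ?_, he, he0⟩
  by_contra h
  have h0 : Polynomial.rootMultiplicity 0 a = 0 := by omega
  rw [h0, pow_zero, one_mul] at he
  exact he0 (he ▸ ha0)

theorem mk_isUnit {i : ℕ} {g : Polynomial (ZMod p)} (hg : g.coeff 0 ≠ 0) :
    IsUnit (Ideal.Quotient.mk (Ideal.span {(Polynomial.X : Polynomial (ZMod p)) ^ (i + 1)}) g) := by
  conv in g => rw [← Polynomial.X_mul_divX_add g]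
  rw [map_add]
  refine IsNilpotent.isUnit_add_right_of_commute ?_ ?_ (Commute.all _ _)
  · refine ⟨i + 1, ?_⟩
    rw [← map_pow, Ideal.Quotient.eq_zero_iff_mem, Ideal.mem_span_singleton, mul_pow]
    exact Dvd.intro _ rfl
  · exact (Polynomial.isUnit_C.mpr (isUnit_iff_ne_zero.mpr hg)).map _

theorem mk_X_pow_ne_zero (i : ℕ) :
    Ideal.Quotient.mk (Ideal.span {(Polynomial.X : Polynomial (ZMod p)) ^ (i + 1)}) Polynomial.X ^ i ≠ 0 := by
  rw [← map_pow, Ne, Ideal.Quotient.eq_zero_iff_mem, Ideal.mem_span_singleton, Polynomial.X_pow_dvd_iff]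
  intro h
  have := h i (Nat.lt_succ_self i)
  rw [Polynomial.coeff_X_pow_self] at this
  exact one_ne_zero this

variable {T : Type u} [CommRing T] (f : MvPolynomial (Fin 2) ℤ →+* T)
  (q s : ℤ) (h : MvPolynomial (Fin 2) ℤ)

theorem not_gorenstein (hf : Function.Surjective f) (hq : (p : ℤ) ∣ q) (hs : (p : ℤ) ∣ s)
    (hker : RingHom.ker f = Ideal.span {X 0 * X 1 - C q, h * (X 0 - C s), h * (X 1 - C s)})
    (hc : (p : ℤ) ∣ MvPolynomial.eval ![0, 0] h) (hax : ∀ j, axis p j h ≠ 0)
    (hreg : IsSMulRegular T (p : T)) : ¬ LocCoh.IsGorensteinRing T := by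
  intro hT
  have hp : p.Prime := Fact.out
  have hker' : ∀ {R : Type} [CommRing R] (φ : MvPolynomial (Fin 2) ℤ →+* R),
      φ (X 0 * X 1 - C q) = 0 → φ (h * (X 0 - C s)) = 0 → φ (h * (X 1 - C s)) = 0 →
      RingHom.ker f ≤ RingHom.ker φ := by
    intro R _ φ h1 h2 h3
    rw [hker, Ideal.span_le]
    rintro z (rfl | rfl | rfl)
    · exact h1
    · exact h2
    · exact h3
  -- the point
  let χ : MvPolynomial (Fin 2) ℤ →+* ZMod p := (Int.castRingHom (ZMod p)).comp (MvPolynomial.eval ![0, 0])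
  have hχs : ∀ i : Fin 2, χ (X i) = 0 := fun i => by fin_cases i <;> simp [χ]
  have hχC : ∀ c : ℤ, χ (C c) = c := fun c => by simp [χ]
  have hs0 : (s : ZMod p) = 0 := (ZMod.intCast_zmod_eq_zero_iff_dvd s p).mpr hs
  have hq0 : (q : ZMod p) = 0 := (ZMod.intCast_zmod_eq_zero_iff_dvd q p).mpr hq
  have hχ : RingHom.ker f ≤ RingHom.ker χ := hker' χ
    (by rw [map_sub, map_mul, hχs, hχC, hq0, zero_mul, sub_zero])
    (by rw [map_mul, map_sub, hχs, hχC, hs0, sub_zero, mul_zero])
    (by rw [map_mul, map_sub, hχs, hχC, hs0, sub_zero, mul_zero])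
  let χT : T →+* ZMod p := f.liftOfSurjective hf ⟨χ, hχ⟩
  have hχT : ∀ z, χT (f z) = χ z := fun z => RingHom.liftOfSurjective_comp_apply f hf ⟨χ, hχ⟩ z
  let P : Ideal T := RingHom.ker χT
  have : P.IsPrime := RingHom.ker_isPrime χT
  have := hT.isGorensteinLocalRing_localization P
  let L := Localization.AtPrime P
  let ι : T →+* L := algebraMap T L
  have hpP : (p : T) ∈ P := by
    show χT (p : T) = 0
    rw [map_natCast, ZMod.natCast_self]
  have hπm : ι (p : T) ∈ maximalIdeal L := (IsLocalization.AtPrime.to_map_mem_maximal_iff L P _).mpr hpP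
  have hπreg : IsSMulRegular L (ι (p : T)) :=
    (RingTheory.Sequence.isWeaklyRegular_singleton_iff L _).mp
      (RingTheory.Sequence.IsWeaklyRegular.of_flat (S := L)
        ((RingTheory.Sequence.isWeaklyRegular_singleton_iff T (p : T)).mpr hreg))
  have hGS := (Groth.Agent.Lib.Goren.Basic.isGorensteinLocalRing_quotient_iff hπm hπreg).mp inferInstance
  have := Groth.Agent.Lib.Goren.Basic.isLocalRing_quotient_span hπm
  set S := L ⧸ Ideal.span {ι (p : T)}
  let ω : MvPolynomial (Fin 2) ℤ →+* S := (Ideal.Quotient.mk _).comp (ι.comp f)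
  have hωp : ω (C (p : ℤ)) = 0 := by
    show Ideal.Quotient.mk _ (ι (f (C (p : ℤ)))) = 0
    rw [Ideal.Quotient.eq_zero_iff_mem,
      show f (C (p : ℤ)) = (p : T) by rw [map_natCast, map_natCast]]
    exact Ideal.mem_span_singleton_self _
  have hωdvd : ∀ c : ℤ, (p : ℤ) ∣ c → ω (C c) = 0 := by
    rintro c ⟨d, rfl⟩
    rw [map_mul, map_mul, hωp, zero_mul]
  have hωf : ∀ z ∈ RingHom.ker f, ω z = 0 := fun z hz => by
    show Ideal.Quotient.mk _ (ι (f z)) = 0
    rw [RingHom.mem_ker.mp hz, map_zero, map_zero]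
  have hunit : ∀ z, χ z ≠ 0 → IsUnit (ω z) := fun z hz => by
    have : IsUnit (ι (f z)) := IsLocalization.map_units L (⟨f z, fun hm => hz (by
      rw [← hχT]; exact hm)⟩ : P.primeCompl)
    exact this.map (Ideal.Quotient.mk _)
  have hXX : ω (X 0) * ω (X 1) = 0 := by
    have h1 := hωf (X 0 * X 1 - C q) (hker ▸ Ideal.subset_span (Or.inl rfl))
    rwa [map_sub, map_mul, hωdvd q hq, sub_zero] at h1
  -- the trailing degrees
  have htr : ∀ j, ∃ (i : ℕ) (e : Polynomial (ZMod p)), 1 ≤ i ∧ axis p j h = Polynomial.X ^ i * e ∧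
      e.coeff 0 ≠ 0 := fun j => exists_trailing p (hax j) (by
    rw [coeff_zero_axis, (ZMod.intCast_zmod_eq_zero_iff_dvd _ p).mpr hc])
  choose i e hi hae he0 using htr
  have hjk : ∀ j k : Fin 2, j ≠ k → ω (X k) * ω (X j) = 0 := by
    intro j k hne
    match j, k, hne with
    | 0, 0, hne => exact absurd rfl hne
    | 0, 1, _ => rw [mul_comm]; exact hXX
    | 1, 0, _ => exact hXX
    | 1, 1, hne => exact absurd rfl hne
  have hpow : ∀ j k : Fin 2, j ≠ k → ω (X j) ^ (i j + 1) = 0 := by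
    intro j k hne
    obtain ⟨E, hE⟩ := Polynomial.map_surjective (Int.castRingHom (ZMod p)) ZMod.intCast_surjective (e j)
    have hEu : IsUnit (ω (Polynomial.aeval (X j : MvPolynomial (Fin 2) ℤ) E)) := by
      refine hunit _ fun hzero => he0 j ?_
      have h1 : ∀ G : Polynomial ℤ, χ (Polynomial.aeval (X j : MvPolynomial (Fin 2) ℤ) G) =
          (G.map (Int.castRingHom (ZMod p))).coeff 0 := by
        intro G
        conv_lhs => rw [← Polynomial.X_mul_divX_add G]
        simp [hχs, hχC, Polynomial.coeff_map]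
      rw [← hE, ← h1 E, hzero]
    have hmem := sub_aeval_mem p j k hne h (Polynomial.X ^ i j * E)
      (by rw [Polynomial.map_mul, Polynomial.map_pow, Polynomial.map_X, hE, hae])
    obtain ⟨a, b, hab⟩ := Ideal.mem_span_pair.mp hmem
    have hab' := congrArg ω hab
    rw [map_add, map_mul, map_mul, map_sub, hωp, mul_zero, zero_add, map_mul, map_pow,
      Polynomial.aeval_X, map_mul, map_pow] at hab'
    have hu : ω h * ω (X j) = 0 := by
      have h1 := hωf (h * (X j - C s)) (hker ▸ Ideal.subset_span (by fin_cases j <;> simp))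
      rwa [map_mul, map_sub, hωdvd s hs, sub_zero] at h1
    refine hEu.mul_left_eq_zero.mp ?_
    rw [pow_succ]
    linear_combination hu + ω (X j) * hab' - ω b * hjk j k hne
  -- the detecting maps
  have hψ : ∀ j, RingHom.ker f ≤ RingHom.ker
      ((Ideal.Quotient.mk (Ideal.span {(Polynomial.X : Polynomial (ZMod p)) ^ (i j + 1)})).comp (axis p j)) := by
    intro j
    have haxs : axis p j (C s) = 0 := by rw [axis_C, hs0, map_zero]
    have hu : ∀ m : Fin 2, (Ideal.Quotient.mk (Ideal.span {(Polynomial.X : Polynomial (ZMod p)) ^ (i j + 1)}))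
        (axis p j (h * (X m - C s))) = 0 := by
      intro m
      rw [map_mul (axis p j), map_sub (axis p j), haxs, sub_zero, axis_X, Ideal.Quotient.eq_zero_iff_mem,
        Ideal.mem_span_singleton, hae j]
      split_ifs
      · exact ⟨e j, by ring⟩
      · simp
    exact hker' _ (by rw [RingHom.comp_apply, axis_rel p j hq, map_zero]) (hu 0) (hu 1)
  let β : ∀ j, S →+* Polynomial (ZMod p) ⧸ Ideal.span {(Polynomial.X : Polynomial (ZMod p)) ^ (i j + 1)} :=
    fun j => Ideal.Quotient.lift _ (IsLocalization.lift (M := P.primeCompl) (S := L)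
      (g := f.liftOfSurjective hf ⟨_, hψ j⟩) fun y => by
        obtain ⟨a, ha⟩ := hf y.1
        rw [← ha, RingHom.liftOfSurjective_comp_apply]
        refine mk_isUnit p ?_
        rw [coeff_zero_axis]
        intro h0
        exact y.2 (show χT y.1 = 0 by rw [← ha, hχT]; exact h0))
      (fun z hz => by
        obtain ⟨d, rfl⟩ := Ideal.mem_span_singleton'.mp hz
        rw [map_mul, IsLocalization.lift_eq, map_natCast]
        rw [show ((p : ℕ) : Polynomial (ZMod p) ⧸ Ideal.span {(Polynomial.X : Polynomial (ZMod p)) ^ (i j + 1)}) = 0 by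
          rw [← map_natCast (Ideal.Quotient.mk _), ← map_natCast (Polynomial.C : ZMod p →+* _), ZMod.natCast_self,
            map_zero, map_zero], mul_zero])
  have hβ : ∀ j z, β j (ω z) = Ideal.Quotient.mk _ (axis p j z) := fun j z => by
    simp only [β, ω, RingHom.comp_apply, Ideal.Quotient.lift_mk]
    exact (IsLocalization.lift_eq _ (f z)).trans
      (RingHom.liftOfSurjective_comp_apply f hf ⟨_, hψ j⟩ z)
  let x := ω (X 0) ^ i 0
  let y := ω (X 1) ^ i 1
  have hkill : ∀ j k : Fin 2, j ≠ k → ∀ m ∈ maximalIdeal S, m * ω (X j) ^ i j = 0 := by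
    intro j k hne m hm
    obtain ⟨z, rfl⟩ := Ideal.Quotient.mk_surjective m
    obtain ⟨t, u, rfl⟩ := IsLocalization.exists_mk'_eq P.primeCompl z
    obtain ⟨a, rfl⟩ := hf t
    have hsplit : Ideal.Quotient.mk (Ideal.span {ι (p : T)}) (IsLocalization.mk' L (f a) u) =
        ω a * Ideal.Quotient.mk _ (IsLocalization.mk' L 1 u) := by
      rw [IsLocalization.mk'_eq_mul_mk'_one, map_mul]
      rfl
    rw [hsplit] at hm ⊢
    have ha : χ a = 0 := by
      by_contra hne'
      refine IsLocalRing.notMem_maximalIdeal.mpr ((hunit a hne').mul ?_) hm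
      refine IsUnit.map (Ideal.Quotient.mk _) ?_
      refine IsUnit.of_mul_eq_one (algebraMap T L u) ?_
      rw [IsLocalization.mk'_spec, map_one]
    suffices ω a * ω (X j) ^ i j = 0 by rw [mul_right_comm, this, zero_mul]
    obtain ⟨c₀, c₁, hcc⟩ := Ideal.mem_span_pair.mp (sub_eval_mem 0 0 a)
    have ha' : ω (C (MvPolynomial.eval ![0, 0] a)) = 0 :=
      hωdvd _ ((ZMod.intCast_zmod_eq_zero_iff_dvd _ p).mp ha)
    have hcc' := congrArg ω hcc
    simp only [map_add, map_mul, map_sub, map_zero, sub_zero, ha'] at hcc'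
    rw [← hcc', add_mul]
    have h1 : ∀ m : Fin 2, ω (X m) * ω (X j) ^ i j = 0 := by
      intro m
      by_cases hm' : m = j
      · rw [hm', ← pow_succ', hpow j k hne]
      · obtain ⟨r, hr⟩ := Nat.exists_eq_add_of_le (hi j)
        rw [hr, pow_add, pow_one, ← mul_assoc, hjk j m (Ne.symm hm'), zero_mul]
    rw [mul_assoc, mul_assoc, h1, h1, mul_zero, mul_zero, add_zero]
  refine Local.not_gorenstein_of_two_socle x y ?_ (hkill 0 1 (by decide)) (hkill 1 0 (by decide)) ?_ hGS
  · intro hx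
    apply mk_X_pow_ne_zero p (i 0)
    have := congrArg (β 0) hx
    rwa [map_pow, hβ, map_zero, axis_X, if_pos rfl] at this
  · intro hy
    obtain ⟨r, hr⟩ := Ideal.mem_span_singleton'.mp hy
    apply mk_X_pow_ne_zero p (i 1)
    have := congrArg (β 1) hr
    rw [map_mul, map_pow, map_pow, hβ, hβ, axis_X, axis_X, if_neg (by decide), if_pos rfl, map_zero,
      zero_pow (by have := hi 0; omega), mul_zero] at this
    exact this.symm

end Groth.Agent.H15.WeilGor.NotGor
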